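import Cfsg.Agent.S3303
import Cfsg.Agent.Lib.Involutions
import Cfsg.Agent.Lib.CoprimeGen
import Cfsg.Agent.Lib.Basic
import Cfsg.Agent.Lib.BSW.Dihedral
import Cfsg.Agent.Lib.ZStar.Main

/-!
The configuration behind S3306, stated in the quotient by a normal cyclic 2-subgroup that is not central:
a group with cyclic intersections of Sylow 2-subgroups, a subgroup of index 2 and a set of involutions
each lying in a unique Sylow 2-subgroup. It does not exist, given the odd order theorem.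
-/

set_option autoImplicit false
set_option linter.unusedSectionVars false
set_option linter.style.haveILetI false

namespace CfsgLib.AfterFT.CyclicIntersect

open Cfsg Subgroup
open scoped Pointwise

universe u

variable {Γ : Type u} [Group Γ] [Finite Γ]

/-- The configuration. -/
structure Hyp (C : Subgroup Γ) (Big : Γ → Prop) : Prop where
  odd : ∀ (H : Type u) [Group H] [Finite H], Odd (Nat.card H) → Group.IsSolvable H
  nonsolvable : ¬ Group.IsSolvable Γ
  cyc : ∀ S T : Sylow 2 Γ, S ≠ T → IsCyclic ↥((S : Subgroup Γ) ⊓ (T : Subgroup Γ))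
  index : C.index = 2
  big_conj : ∀ g t : Γ, Big t → Big (g * t * g⁻¹)
  big_out : ∀ t : Γ, orderOf t = 2 → t ∉ C → Big t
  big_uniq : ∀ t : Γ, orderOf t = 2 → Big t → ∀ S T : Sylow 2 Γ, t ∈ S → t ∈ T → S = T
  big_mul : ∀ a b : Γ, orderOf a = 2 → orderOf b = 2 → ¬ Big a → ¬ Big b → Commute a b → a ≠ b → Big (a * b)
  big_half : ∀ v w : Γ, orderOf v = 2 → orderOf w = 2 → v ∈ C → w ∈ C → Big v → Big w →
    Even (orderOf (v * w)) → Big ((v * w) ^ (orderOf (v * w) / 2))
  cent_le : ∀ t : Γ, orderOf t = 2 → ¬ Big t → ¬ Group.IsSolvable (centralizer ({t} : Set Γ)) →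
    centralizer ({t} : Set Γ) ≤ C
  no_isolated : ∀ (S : Sylow 2 Γ) (t : Γ), orderOf t = 2 → t ∈ S →
    (∀ g : Γ, g * t * g⁻¹ ∈ S → g * t * g⁻¹ = t) → False

variable {C : Subgroup Γ} {Big : Γ → Prop} (h : Hyp C Big)

/-- Involutions of `C` lying in a unique Sylow 2-subgroup. -/
def Tight (C : Subgroup Γ) (Big : Γ → Prop) (t : Γ) : Prop := orderOf t = 2 ∧ t ∈ C ∧ Big t

theorem isPGroup_zpowers_of_orderOf {g : Γ} {k : ℕ} (hg : orderOf g = 2 ^ k) : IsPGroup 2 (zpowers g) :=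
  IsPGroup.of_card (by rw [Nat.card_zpowers, hg])

theorem mem_of_mem_normalizer (S : Sylow 2 Γ) {g : Γ} (hg : IsPGroup 2 (zpowers g))
    (hn : g ∈ normalizer ((S : Subgroup Γ) : Set Γ)) : g ∈ (S : Subgroup Γ) :=
  have h1 : g ∈ zpowers g ⊓ normalizer ((S : Subgroup Γ) : Set Γ) := ⟨mem_zpowers g, hn⟩
  (hg.inf_normalizer_sylow S ▸ h1 : g ∈ zpowers g ⊓ (S : Subgroup Γ)).2

theorem mem_of_two {S : Sylow 2 Γ} {g : Γ} (hg : g ∈ (S : Subgroup Γ)) : IsPGroup 2 (zpowers g) :=
  S.2.to_le (zpowers_le.mpr hg)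

theorem exists_sylow_mem {g : Γ} (hg : IsPGroup 2 (zpowers g)) : ∃ T : Sylow 2 Γ, g ∈ T := by
  obtain ⟨T, hT⟩ := hg.exists_le_sylow
  exact ⟨T, hT (mem_zpowers g)⟩

theorem conj_mem_smul (S : Sylow 2 Γ) (g : Γ) {t : Γ} (ht : t ∈ (S : Subgroup Γ)) :
    g * t * g⁻¹ ∈ ((g • S : Sylow 2 Γ) : Subgroup Γ) := by
  rw [Sylow.coe_subgroup_smul]
  exact ⟨t, ht, rfl⟩

theorem solvable_of_normal_aux (N : Subgroup Γ) [N.Normal] [Group.IsSolvable N] [Group.IsSolvable (Γ ⧸ N)] :
    Group.IsSolvable Γ :=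
  Group.isSolvable_of_ker_le_range N.subtype (QuotientGroup.mk' N) (by rw [QuotientGroup.ker_mk', Subgroup.range_subtype])

include h

theorem Hyp.normal : C.Normal := Subgroup.normal_of_index_eq_two h.index

theorem Hyp.out_mul {a b : Γ} (ha : a ∉ C) (hb : b ∉ C) : a * b ∈ C :=
  (Subgroup.mul_mem_iff_of_index_two h.index).mpr (iff_of_false ha hb)

theorem Hyp.sq_mem (a : Γ) : a * a ∈ C :=
  (Subgroup.mul_mem_iff_of_index_two h.index).mpr Iff.rfl

theorem Hyp.mem_normalizer_of_commute {t g : Γ} (ht : orderOf t = 2) (hb : Big t) {S : Sylow 2 Γ}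
    (htS : t ∈ (S : Subgroup Γ)) (hg : Commute g t) : g ∈ normalizer ((S : Subgroup Γ) : Set Γ) := by
  refine Sylow.smul_eq_iff_mem_normalizer.mp (h.big_uniq t ht hb _ _ ?_ htS)
  have := conj_mem_smul S g htS
  rwa [hg.eq, mul_inv_cancel_right] at this

theorem Hyp.mem_sylow_of_commute {t g : Γ} (ht : orderOf t = 2) (hb : Big t) {S : Sylow 2 Γ}
    (htS : t ∈ (S : Subgroup Γ)) (hg : Commute g t) (h2 : IsPGroup 2 (zpowers g)) : g ∈ (S : Subgroup Γ) :=
  mem_of_mem_normalizer S h2 (h.mem_normalizer_of_commute ht hb htS hg)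

theorem Hyp.normalizer_ne_top (S : Sylow 2 Γ) : normalizer ((S : Subgroup Γ) : Set Γ) ≠ ⊤ := fun e => by
  haveI : (S : Subgroup Γ).Normal := normalizer_eq_top_iff.mp e
  haveI : Group.IsNilpotent (S : Subgroup Γ) := S.2.isNilpotent
  haveI : Group.IsSolvable (Γ ⧸ (S : Subgroup Γ)) := h.odd _ (by
    rw [← Subgroup.index_eq_card]
    exact Nat.not_even_iff_odd.mp fun he => S.not_dvd_index he.two_dvd)
  exact h.nonsolvable (solvable_of_normal_aux (S : Subgroup Γ))

theorem Hyp.exists_not_mem (S : Sylow 2 Γ) : ∃ s ∈ (S : Subgroup Γ), s ∉ C := by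
  by_contra hne
  push Not at hne
  have h1 := Subgroup.index_dvd_of_le (fun s hs => hne s hs : (S : Subgroup Γ) ≤ C)
  rw [h.index] at h1
  exact S.not_dvd_index h1

theorem Hyp.exists_moving (S : Sylow 2 Γ) : ∃ g ∈ C, g ∉ normalizer ((S : Subgroup Γ) : Set Γ) := by
  by_contra hne
  push Not at hne
  refine h.normalizer_ne_top S (eq_top_iff.mpr fun g _ => ?_)
  obtain ⟨s, hs, hsC⟩ := h.exists_not_mem S
  by_cases hg : g ∈ C
  · exact hne g hg
  · exact (mul_mem_cancel_right (le_normalizer hs)).mp (hne _ (h.out_mul hg hsC))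

theorem Hyp.tight_conj {t : Γ} (ht : Tight C Big t) (g : Γ) : Tight C Big (g * t * g⁻¹) :=
  ⟨(ZStar.orderOf_conj g t).trans ht.1, h.normal.conj_mem t ht.2.1 g, h.big_conj g t ht.2.2⟩

/-- A tight involution in the Sylow subgroup has a conjugate outside it. -/
theorem Hyp.exists_tight_outside {S : Sylow 2 Γ} {t : Γ} (ht : Tight C Big t) (htS : t ∈ (S : Subgroup Γ)) :
    ∃ g ∈ C, Tight C Big (g * t * g⁻¹) ∧ g * t * g⁻¹ ∉ (S : Subgroup Γ) := by
  obtain ⟨g, hgC, hg⟩ := h.exists_moving S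
  refine ⟨g, hgC, h.tight_conj ht g, fun hin => hg (Sylow.smul_eq_iff_mem_normalizer.mp ?_)⟩
  exact h.big_uniq _ ((ZStar.orderOf_conj g t).trans ht.1) (h.big_conj g t ht.2.2) _ _ (conj_mem_smul S g htS) hin

omit h in
theorem orderOf_two_of {b : Γ} (hb : b * b = 1) (h1 : b ≠ 1) : orderOf b = 2 :=
  Involutions.orderOf_eq_two_iff'.mpr ⟨hb, h1⟩

theorem orderOf_mul_of_commute {a b : Γ} (ha : orderOf a = 2) (hb : orderOf b = 2) (hc : Commute a b)
    (hne : a ≠ b) : orderOf (a * b) = 2 := by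
  refine orderOf_two_of ?_ fun e => hne ?_
  · rw [mul_assoc, ← mul_assoc b a b, ← hc.eq, mul_assoc a b b, ZStar.sq_eq_one hb, mul_one, ZStar.sq_eq_one ha]
  · rw [mul_eq_one_iff_eq_inv, ZStar.inv_eq_self hb] at e
    exact e

/-- Every Sylow subgroup has a tight involution central in its intersection with `C`. -/
theorem Hyp.exists_central (S : Sylow 2 Γ) :
    ∃ t, Tight C Big t ∧ t ∈ (S : Subgroup Γ) ∧ ∀ u ∈ (S : Subgroup Γ) ⊓ C, Commute u t := by
  classical
  haveI : Fact (Nat.Prime 2) := ⟨Nat.prime_two⟩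
  haveI := h.normal
  set U : Subgroup Γ := (S : Subgroup Γ) ⊓ C with hU
  have hUp : IsPGroup 2 U := S.2.to_le inf_le_left
  have hne : U ≠ ⊥ := by
    intro hbot
    refine h.nonsolvable ?_
    haveI : Group.IsSolvable C := h.odd C (Nat.not_even_iff_odd.mp fun he => by
      obtain ⟨x, hx⟩ := exists_prime_orderOf_dvd_card' (G := C) 2 he.two_dvd
      have hx' : orderOf (x : Γ) = 2 := (Subgroup.orderOf_coe x).trans hx
      obtain ⟨T, hT⟩ := exists_sylow_mem (isPGroup_zpowers_of_orderOf (g := (x : Γ)) (k := 1) (by rw [hx', pow_one]))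
      obtain ⟨g, hg⟩ := MulAction.exists_smul_eq Γ T S
      have hm : g * x * g⁻¹ ∈ U := ⟨hg ▸ conj_mem_smul T g hT, h.normal.conj_mem x x.2 g⟩
      rw [hbot, mem_bot, mul_inv_eq_one, mul_eq_left] at hm
      rw [hm, orderOf_one] at hx'
      omega)
    haveI : Group.IsSolvable (Γ ⧸ C) := by
      haveI : IsCyclic (Γ ⧸ C) := isCyclic_of_prime_card (p := 2) (by rw [← Subgroup.index_eq_card, h.index])
      infer_instance
    exact solvable_of_normal_aux C
  haveI : Nontrivial U := (Subgroup.nontrivial_iff_ne_bot _).mpr hne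
  haveI := hUp.center_nontrivial
  obtain ⟨⟨⟨a, haU⟩, hac⟩, ha'⟩ : ∃ c : Subgroup.center U, orderOf c = 2 := by
    refine exists_prime_orderOf_dvd_card' 2 ?_
    obtain ⟨m, hm⟩ := (hUp.to_subgroup (Subgroup.center U)).exists_card_eq
    rw [hm]
    refine dvd_pow_self 2 fun h0 => ?_
    rw [h0, pow_zero] at hm
    exact absurd hm (Finite.one_lt_card_iff_nontrivial.mpr (inferInstance : Nontrivial ↥(Subgroup.center U))).ne'
  have ha : orderOf a = 2 := by simpa [Subgroup.orderOf_mk] using ha'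
  have hacom : ∀ u ∈ U, Commute u a := fun u hu =>
    congrArg Subtype.val (Subgroup.mem_center_iff.mp hac ⟨u, hu⟩)
  by_cases hba : Big a
  · exact ⟨a, ⟨ha, haU.2, hba⟩, haU.1, hacom⟩
  by_contra hno
  refine h.no_isolated S a ha haU.1 fun g hg => ?_
  by_contra hne'
  set b := g * a * g⁻¹ with hb
  have hb2 : orderOf b = 2 := (ZStar.orderOf_conj g a).trans ha
  have hbU : b ∈ U := ⟨hg, h.normal.conj_mem a haU.2 g⟩
  have hnb : ¬ Big b := fun hB => hba (by
    have := h.big_conj g⁻¹ b hB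
    rwa [hb, show g⁻¹ * (g * a * g⁻¹) * g⁻¹⁻¹ = a by group] at this)
  have hab : Commute a b := (hacom b hbU).symm
  have hBe : Big (a * b) := h.big_mul a b ha hb2 hba hnb hab (fun e => hne' e.symm)
  have he2 : orderOf (a * b) = 2 := orderOf_mul_of_commute h ha hb2 hab (fun e => hne' e.symm)
  have heU : a * b ∈ U := U.mul_mem haU hbU
  set K : Subgroup Γ := C ⊓ centralizer ({b} : Set Γ) with hK
  have heK : a * b ∈ K := ⟨heU.2, mem_centralizer_singleton_iff.mpr (hab.mul_left (Commute.refl b)).eq⟩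
  obtain ⟨P, hP⟩ := ((isPGroup_zpowers_of_orderOf (k := 1) (by simpa using he2)).of_equiv
    (subgroupOfEquivOfLe (zpowers_le.mpr heK)).symm).exists_le_sylow
  set P' := (P : Subgroup K).map K.subtype with hP'
  have hP'p : IsPGroup 2 P' := P.2.map _
  have heP : a * b ∈ P' := ⟨⟨a * b, heK⟩, hP (mem_subgroupOf.mpr (mem_zpowers (a * b))), rfl⟩
  obtain ⟨T, hT⟩ := hP'p.exists_le_sylow
  have hTS : T = S := h.big_uniq _ he2 hBe T S (hT heP) heU.1
  subst hTS
  have hP'U : P' ≤ U := le_inf hT ((map_subtype_le _).trans inf_le_left)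
  set U' := U.map (MulAut.conj g).toMonoidHom with hU'
  have hU'K : U' ≤ K := by
    rintro _ ⟨u, hu, rfl⟩
    refine ⟨h.normal.conj_mem u hu.2 g, mem_centralizer_singleton_iff.mpr ?_⟩
    exact ((hacom u hu).map (MulAut.conj g).toMonoidHom).eq
  obtain ⟨P₂, hP₂⟩ := ((hUp.map _).of_equiv (subgroupOfEquivOfLe hU'K).symm).exists_le_sylow
  have hcard : Nat.card U ≤ Nat.card P' := by
    calc Nat.card U = Nat.card U' := (card_map_of_injective (MulAut.conj g).injective).symm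
      _ = Nat.card (U'.subgroupOf K) := (Nat.card_congr (subgroupOfEquivOfLe hU'K).toEquiv).symm
      _ ≤ Nat.card (P₂ : Subgroup K) := Subgroup.card_le_of_le hP₂
      _ = Nat.card (P : Subgroup K) := by rw [P.card_eq_multiplicity, P₂.card_eq_multiplicity]
      _ = Nat.card P' := (card_map_of_injective K.subtype_injective).symm
  have hPU : P' = U := eq_of_le_of_card_ge hP'U hcard
  refine hno ⟨a * b, ⟨he2, heU.2, hBe⟩, heU.1, fun u hu => (hacom u hu).mul_right ?_⟩
  have huK : u ∈ K := map_subtype_le _ (hPU.symm ▸ hu : u ∈ P')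
  exact mem_centralizer_singleton_iff.mp huK.2

/-- The half power of a product of two involutions. -/
theorem Hyp.half {x y : Γ} (hx : orderOf x = 2) (hy : orderOf y = 2) (he : Even (orderOf (x * y))) :
    orderOf ((x * y) ^ (orderOf (x * y) / 2)) = 2 ∧ Commute x ((x * y) ^ (orderOf (x * y) / 2)) ∧
      Commute y ((x * y) ^ (orderOf (x * y) / 2)) := by
  refine ⟨Involutions.orderOf_half he, ?_⟩
  obtain ⟨h1, h2⟩ := Involutions.central_half (Involutions.mul_self_eq_one_of_orderOf hx)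
    (Involutions.mul_self_eq_one_of_orderOf hy) he
  exact ⟨h1.symm, h2.symm⟩

theorem Hyp.conj_of_ne {v w : Γ} (hv : Tight C Big v) (hw : Tight C Big w) {S : Sylow 2 Γ}
    (hvS : v ∈ (S : Subgroup Γ)) (hwS : w ∉ (S : Subgroup Γ)) : ∃ g ∈ C, g * v * g⁻¹ = w := by
  rcases Nat.even_or_odd (orderOf (v * w)) with he | ho
  · exfalso
    obtain ⟨hc, hvc, hwc⟩ := h.half hv.1 hw.1 he
    have hB := h.big_half v w hv.1 hw.1 hv.2.1 hw.2.1 hv.2.2 hw.2.2 he
    have h2 : ∀ {t : Γ}, orderOf t = 2 → IsPGroup 2 (zpowers t) := fun ht =>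
      isPGroup_zpowers_of_orderOf (k := 1) (by simpa using ht)
    obtain ⟨T, hT⟩ := exists_sylow_mem (h2 hc)
    have h1 := h.mem_sylow_of_commute hc hB hT hvc (h2 hv.1)
    have h3 := h.mem_sylow_of_commute hc hB hT hwc (h2 hw.1)
    exact hwS ((h.big_uniq v hv.1 hv.2.2 S T hvS h1).symm ▸ h3)
  · obtain ⟨d, hd, he⟩ := Involutions.exists_conj_eq_of_odd (Involutions.mul_self_eq_one_of_orderOf hv.1)
      (Involutions.mul_self_eq_one_of_orderOf hw.1) ho
    refine ⟨d, (closure_le C).mpr ?_ hd, he⟩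
    rintro _ (rfl | rfl)
    · exact hv.2.1
    · exact hw.2.1

theorem Hyp.conj {v w : Γ} (hv : Tight C Big v) (hw : Tight C Big w) : ∃ g ∈ C, g * v * g⁻¹ = w := by
  obtain ⟨S, hS⟩ := exists_sylow_mem (isPGroup_zpowers_of_orderOf (k := 1) (by simpa using hv.1))
  by_cases hwS : w ∈ (S : Subgroup Γ)
  · obtain ⟨g, hg, ht, hout⟩ := h.exists_tight_outside hv hS
    obtain ⟨S', hS'⟩ := exists_sylow_mem (isPGroup_zpowers_of_orderOf (k := 1) (by simpa using ht.1))
    have hw' : w ∉ (S' : Subgroup Γ) := fun hw' => hout ((h.big_uniq w hw.1 hw.2.2 S S' hwS hw').symm ▸ hS')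
    obtain ⟨g', hg', he⟩ := h.conj_of_ne ht hw hS' hw'
    refine ⟨g' * g, C.mul_mem hg' hg, ?_⟩
    rw [← he]
    group
  · exact h.conj_of_ne hv hw hS hwS

theorem Hyp.normalizer_of_conj {v : Γ} (hv : Tight C Big v) {S : Sylow 2 Γ} (hvS : v ∈ (S : Subgroup Γ)) {g : Γ}
    (hw : g * v * g⁻¹ ∈ (S : Subgroup Γ)) : g ∈ normalizer ((S : Subgroup Γ) : Set Γ) :=
  Sylow.smul_eq_iff_mem_normalizer.mp
    (h.big_uniq _ ((ZStar.orderOf_conj g v).trans hv.1) (h.big_conj g v hv.2.2) _ _ (conj_mem_smul S g hvS) hw)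

/-- Every tight involution is central in the Sylow subgroup of `C` containing it. -/
theorem Hyp.tight_central {S : Sylow 2 Γ} {t : Γ} (ht : Tight C Big t) (htS : t ∈ (S : Subgroup Γ)) {u : Γ}
    (hu : u ∈ (S : Subgroup Γ) ⊓ C) : Commute u t := by
  obtain ⟨t₀, h0, h0S, hc⟩ := h.exists_central S
  obtain ⟨g, hg, rfl⟩ := h.conj h0 ht
  have hn := h.normalizer_of_conj h0 h0S htS
  have hu1 := (mem_normalizer_iff.mp (inv_mem hn) u).mp hu.1
  have hu2 := h.normal.conj_mem u hu.2 g⁻¹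
  rw [inv_inv] at hu1 hu2
  have h' := (hc (g⁻¹ * u * g) ⟨hu1, hu2⟩).map (MulAut.conj g).toMonoidHom
  simpa [mul_assoc] using h'

theorem Hyp.two_tight (S : Sylow 2 Γ) :
    ∃ t t', Tight C Big t ∧ Tight C Big t' ∧ t ∈ (S : Subgroup Γ) ∧ t' ∈ (S : Subgroup Γ) ∧ t ≠ t' := by
  obtain ⟨t, ht, htS, -⟩ := h.exists_central S
  by_contra hne
  push Not at hne
  exact h.no_isolated S t ht.1 htS fun g hg => (hne t _ ht (h.tight_conj ht g) htS hg).symm

/-- The centraliser of a loose involution which commutes with an element outside `C`. -/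
theorem Hyp.centralizer_le {x s : Γ} (hx : orderOf x = 2) (hnb : ¬ Big x) (hs : s ∉ C) (hsx : Commute s x)
    {S : Sylow 2 Γ} (hxS : x ∈ (S : Subgroup Γ) ⊓ C) :
    centralizer ({x} : Set Γ) ≤ normalizer ((S : Subgroup Γ) : Set Γ) := by
  classical
  haveI : Fact (Nat.Prime 2) := ⟨Nat.prime_two⟩
  set H : Subgroup Γ := centralizer ({x} : Set Γ) with hH
  haveI hsol : Group.IsSolvable H := by
    by_contra hns
    exact hs (h.cent_le x hx hnb hns (mem_centralizer_singleton_iff.mpr hsx.eq))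
  have hcH : ∀ P R : Sylow 2 H, P ≠ R → IsCyclic ↥((P : Subgroup H) ⊓ (R : Subgroup H)) := by
    intro P R hne
    obtain ⟨P₁, hP₁⟩ := P.exists_comap_subtype_eq
    obtain ⟨R₁, hR₁⟩ := R.exists_comap_subtype_eq
    haveI := h.cyc P₁ R₁ (fun e => hne (Sylow.ext (by rw [← hP₁, ← hR₁, e])))
    have hle : ((P : Subgroup H) ⊓ (R : Subgroup H)).map H.subtype ≤ (P₁ : Subgroup Γ) ⊓ R₁ := by
      rw [← hP₁, ← hR₁, ← comap_inf]
      exact map_comap_le _ _
    haveI := Subgroup.isCyclic_of_le hle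
    exact isCyclic_of_injective (equivMapOfInjective _ H.subtype H.subtype_injective).toMonoidHom
      (MulEquiv.injective _)
  obtain ⟨Pb, hPb⟩ := Cfsg.Agent.S3303.result hsol hcH
  obtain ⟨e₁, e₂, h1, h2, h1S, h2S, hne⟩ := h.two_tight S
  have hx' : ∀ {t : Γ}, Tight C Big t → t ∈ (S : Subgroup Γ) → t ∈ H := fun ht htS =>
    mem_centralizer_singleton_iff.mpr (h.tight_central ht htS hxS).symm.eq
  have h12 : Commute e₁ e₂ := h.tight_central h2 h2S ⟨h1S, h1.2.1⟩
  have h3o := orderOf_mul_of_commute h h1.1 h2.1 h12 hne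
  have h3 : Tight C Big (e₁ * e₂) := ⟨h3o, C.mul_mem h1.2.1 h2.2.1, by
    have := h.big_half e₁ e₂ h1.1 h2.1 h1.2.1 h2.2.1 h1.2.2 h2.2.2 (by rw [h3o]; exact even_two)
    rwa [h3o, show (2 : ℕ) / 2 = 1 from rfl, pow_one] at this⟩
  have h3S : e₁ * e₂ ∈ (S : Subgroup Γ) := mul_mem h1S h2S
  -- the odd core of `H` normalises `S`
  set O := (oddCore H).map H.subtype with hO
  set A := closure ({e₁, e₂} : Set Γ) with hA
  have hAmem : ∀ a ∈ A, a = 1 ∨ a = e₁ ∨ a = e₂ ∨ a = e₁ * e₂ := by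
    intro a ha
    have hq1 := ZStar.sq_eq_one h1.1
    have hq2 := ZStar.sq_eq_one h2.1
    induction ha using Subgroup.closure_induction with
    | mem a ha => rcases ha with rfl | rfl <;> simp
    | one => simp
    | mul a b _ _ ha hb =>
      have k1 : e₁ * (e₁ * e₂) = e₂ := by rw [← mul_assoc, hq1, one_mul]
      have k2 : e₂ * (e₁ * e₂) = e₁ := by rw [h12.eq, ← mul_assoc, hq2, one_mul]
      have k3 : e₁ * e₂ * e₁ = e₂ := by rw [h12.eq, mul_assoc, hq1, mul_one]
      have k4 : e₁ * e₂ * e₂ = e₁ := by rw [mul_assoc, hq2, mul_one]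
      have k5 : e₁ * e₂ * (e₁ * e₂) = 1 := by rw [mul_assoc, k2, hq1]
      rcases ha with rfl | rfl | rfl | rfl <;> rcases hb with rfl | rfl | rfl | rfl <;>
        simp [hq1, hq2, k1, k2, k3, k4, k5, h12.eq.symm]
    | inv a _ ha =>
      rcases ha with rfl | rfl | rfl | rfl
      · simp
      · exact Or.inr (Or.inl (ZStar.inv_eq_self h1.1))
      · exact Or.inr (Or.inr (Or.inl (ZStar.inv_eq_self h2.1)))
      · exact Or.inr (Or.inr (Or.inr (ZStar.inv_eq_self h3o)))
  haveI : IsMulCommutative A := ⟨⟨fun a b => Subtype.ext (by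
    have hc : ∀ p ∈ A, ∀ q ∈ A, Commute p q := fun p hp q hq => by
      rcases hAmem p hp with rfl | rfl | rfl | rfl <;> rcases hAmem q hq with rfl | rfl | rfl | rfl <;>
        first
          | exact Commute.one_left _
          | exact Commute.one_right _
          | exact Commute.refl _
          | exact h12
          | exact h12.symm
          | exact (Commute.refl _).mul_right h12
          | exact h12.symm.mul_right (Commute.refl _)
          | exact ((Commute.refl _).mul_right h12).symm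
          | exact (h12.symm.mul_right (Commute.refl _)).symm
    exact (hc a a.2 b b.2).eq)⟩⟩
  have hAp : IsPGroup 2 A := S.2.to_le ((closure_le _).mpr (by rintro _ (rfl | rfl) <;> assumption))
  have hAnc : ¬ IsCyclic A := fun hc => hne
    (BSW.unique_involution_of_cyclic (hR := hc) A (x := e₁) (y := e₂) (subset_closure (by simp))
      (subset_closure (by simp)) h1.1 h2.1)
  have hAH : A ≤ H := (closure_le _).mpr (by
    rintro _ (rfl | rfl)
    exacts [hx' h1 h1S, hx' h2 h2S])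
  haveI : (oddCore H).Normal := inferInstance
  have hAO : A ≤ normalizer (O : Set Γ) := fun a ha => by
    rw [mem_normalizer_iff]
    have key : ∀ b ∈ H, ∀ o ∈ O, b * o * b⁻¹ ∈ O := by
      rintro b hb _ ⟨o, ho, rfl⟩
      exact ⟨⟨b, hb⟩ * o * ⟨b, hb⟩⁻¹, Normal.conj_mem inferInstance o ho _, rfl⟩
    exact fun o => ⟨key a (hAH ha) o, fun ho => by
      simpa [mul_assoc] using key a⁻¹ (H.inv_mem (hAH ha)) _ ho⟩
  have hcop : (Nat.card A).Coprime (Nat.card O) := by
    obtain ⟨k, hk⟩ := hAp.exists_card_eq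
    rw [hk, card_map_of_injective H.subtype_injective]
    exact Nat.Coprime.pow_left k (Nat.coprime_two_left.mpr odd_card_oddCore)
  have hON : O ≤ normalizer ((S : Subgroup Γ) : Set Γ) := by
    rw [← coprime_generated_by_centralizers hAnc hAO hcop]
    refine iSup₂_le fun a ha o ho => ?_
    have hoa : Commute o a := mem_centralizer_singleton_iff.mp ho.2
    rcases hAmem a ha.1 with e | e | e | e <;> rw [e] at hoa
    · exact absurd e ha.2
    · exact h.mem_normalizer_of_commute h1.1 h1.2.2 h1S hoa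
    · exact h.mem_normalizer_of_commute h2.1 h2.2.2 h2S hoa
    · exact h.mem_normalizer_of_commute h3o h3.2.2 h3S hoa
  -- the Sylow subgroup of `H` containing `e₁`
  have he₁H := hx' h1 h1S
  have hz1 : IsPGroup 2 (zpowers (⟨e₁, he₁H⟩ : H)) :=
    IsPGroup.of_card (n := 1) (by rw [Nat.card_zpowers, Subgroup.orderOf_mk, h1.1, pow_one])
  obtain ⟨P, hP⟩ := hz1.exists_le_sylow
  obtain ⟨T, hT⟩ := (P.2.map H.subtype).exists_le_sylow
  have hTS : T = S := h.big_uniq e₁ h1.1 h1.2.2 T S (hT ⟨⟨e₁, he₁H⟩, hP (mem_zpowers _), rfl⟩) h1S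
  subst hTS
  have hq : Function.Surjective (QuotientGroup.mk' (oddCore H)) := QuotientGroup.mk'_surjective _
  haveI := Sylow.unique_of_normal Pb hPb
  have hPmap : P.mapSurjective hq = Pb := Subsingleton.elim _ _
  intro c hc
  have hmem : QuotientGroup.mk' (oddCore H) (⟨c, hc⟩ * ⟨e₁, he₁H⟩ * (⟨c, hc⟩ : H)⁻¹) ∈
      (Pb : Subgroup (H ⧸ oddCore H)) := by
    rw [map_mul, map_mul, map_inv]
    refine hPb.conj_mem _ ?_ _
    rw [← hPmap, Sylow.coe_mapSurjective]
    exact mem_map_of_mem _ (hP (mem_zpowers _))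
  rw [← hPmap, Sylow.coe_mapSurjective] at hmem
  obtain ⟨p, hp, he⟩ := hmem
  have ho := QuotientGroup.eq.mp he
  have hcin : c * e₁ * c⁻¹ ∈ (T : Subgroup Γ) := by
    refine mem_of_mem_normalizer T (isPGroup_zpowers_of_orderOf (k := 1)
      (by rw [ZStar.orderOf_conj, h1.1, pow_one])) ?_
    have h4 : ((p⁻¹ * (⟨c, hc⟩ * ⟨e₁, he₁H⟩ * (⟨c, hc⟩ : H)⁻¹) : H) : Γ) ∈ O := ⟨_, ho, rfl⟩
    have h5 := mul_mem (le_normalizer (hT ⟨p, hp, rfl⟩)) (hON h4)
    simpa using h5
  exact h.normalizer_of_conj h1 h1S hcin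

/-- A complement of `S` in its normaliser. -/
theorem Hyp.exists_complement (S : Sylow 2 Γ) :
    ∃ D : Subgroup Γ, D ≤ normalizer ((S : Subgroup Γ) : Set Γ) ∧ Odd (Nat.card D) ∧ D ≤ C ∧
      ∀ g ∈ normalizer ((S : Subgroup Γ) : Set Γ), ∃ s ∈ (S : Subgroup Γ), ∃ d ∈ D, g = s * d := by
  classical
  haveI : Fact (Nat.Prime 2) := ⟨Nat.prime_two⟩
  set N : Subgroup Γ := normalizer ((S : Subgroup Γ) : Set Γ)
  set S' : Sylow 2 N := S.subtype le_normalizer
  haveI : (S' : Subgroup N).Normal := by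
    rw [Sylow.coe_subtype]
    exact normal_in_normalizer
  obtain ⟨K, hK⟩ := Subgroup.exists_right_complement'_of_coprime (S'.card_coprime_index)
  have hcard : Odd (Nat.card (K.map N.subtype)) := by
    rw [card_map_of_injective N.subtype_injective, ← hK.symm.index_eq_card]
    exact Nat.not_even_iff_odd.mp fun he => S'.not_dvd_index he.two_dvd
  refine ⟨K.map N.subtype, map_subtype_le _, hcard, fun d hd => ?_, fun g hg => ?_⟩
  · obtain ⟨j, hj⟩ := Odd.of_dvd_nat hcard ((orderOf_dvd_natCard (⟨d, hd⟩ : K.map N.subtype)))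
    rw [Subgroup.orderOf_mk] at hj
    by_contra hdC
    have hp : d ^ (2 * j) ∈ C := by
      rw [pow_mul, pow_two]
      exact C.pow_mem (h.sq_mem d) j
    refine hdC ?_
    have h1 := pow_orderOf_eq_one d
    rw [hj, pow_succ] at h1
    exact (C.mul_mem_cancel_left hp).mp (h1 ▸ C.one_mem)
  · obtain ⟨⟨⟨⟨s, hs⟩, hsS⟩, ⟨d, hd⟩⟩, he, -⟩ := hK.existsUnique ⟨g, hg⟩
    exact ⟨s, hsS, d, ⟨d, hd, rfl⟩, (congrArg Subtype.val he).symm⟩

/-- The configuration does not exist. -/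
theorem Hyp.false : False := by
  classical
  haveI : Fact (Nat.Prime 2) := ⟨Nat.prime_two⟩
  haveI := h.normal
  obtain ⟨S⟩ : Nonempty (Sylow 2 Γ) := inferInstance
  obtain ⟨D, hDN, hDo, hDC, hfac⟩ := h.exists_complement S
  obtain ⟨t₁, t₂, h1, h2, h1S, h2S, hne⟩ := h.two_tight S
  have hconjD : ∀ {t : Γ}, t ∈ (S : Subgroup Γ) → ∀ d ∈ D, d * t * d⁻¹ ∈ (S : Subgroup Γ) := fun ht d hd =>
    (mem_normalizer_iff.mp (hDN hd) _).mp ht
  have htrans : ∀ {t t' : Γ}, Tight C Big t → Tight C Big t' → t ∈ (S : Subgroup Γ) → t' ∈ (S : Subgroup Γ) →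
      ∃ d ∈ D, d * t * d⁻¹ = t' := by
    intro t t' ht ht' htS ht'S
    obtain ⟨g, hgC, rfl⟩ := h.conj ht ht'
    obtain ⟨s, hs, d, hd, rfl⟩ := hfac g (h.normalizer_of_conj ht htS ht'S)
    refine ⟨d, hd, ?_⟩
    have hsC : s ∈ C := (C.mul_mem_cancel_right (hDC hd)).mp hgC
    have hc := h.tight_central (h.tight_conj ht d) (hconjD htS d hd) ⟨hs, hsC⟩
    rw [show s * d * t * (s * d)⁻¹ = s * (d * t * d⁻¹) * s⁻¹ by group, hc.eq]
    group
  -- an element of `S` outside `C` centralised by `D`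
  obtain ⟨s₀, hs₀, hs₀C⟩ := h.exists_not_mem S
  have hUn : (S : Subgroup Γ) ≤ normalizer (((S : Subgroup Γ) ⊓ C : Subgroup Γ) : Set Γ) := fun g hg => by
    rw [mem_normalizer_iff]
    intro u
    constructor
    · exact fun hu => ⟨(S : Subgroup Γ).mul_mem ((S : Subgroup Γ).mul_mem hg hu.1) ((S : Subgroup Γ).inv_mem hg), h.normal.conj_mem u hu.2 g⟩
    · rintro ⟨hu1, hu2⟩
      refine ⟨?_, ?_⟩
      · have := mul_mem (mul_mem (inv_mem hg) hu1) hg
        rwa [show g⁻¹ * (g * u * g⁻¹) * g = u by group] at this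
      · simpa [mul_assoc] using h.normal.conj_mem _ hu2 g⁻¹
  have hDU : D ≤ normalizer (((S : Subgroup Γ) ⊓ C : Subgroup Γ) : Set Γ) := fun d hd => by
    rw [mem_normalizer_iff]
    intro u
    constructor
    · exact fun hu => ⟨hconjD hu.1 d hd, h.normal.conj_mem u hu.2 d⟩
    · rintro ⟨hu1, hu2⟩
      refine ⟨(mem_normalizer_iff.mp (hDN hd) u).mpr hu1, ?_⟩
      simpa [mul_assoc] using h.normal.conj_mem _ hu2 d⁻¹
  haveI := S.2.isNilpotent
  obtain ⟨s, ⟨hsS, hsD⟩, hs'⟩ := coprime_fixed_quotient hDN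
    (by
      obtain ⟨k, hk⟩ := S.2.exists_card_eq
      rw [hk]
      exact Nat.Coprime.pow_right k (Nat.coprime_two_right.mpr hDo))
    (Or.inr inferInstance) inf_le_left hUn hDU hs₀ (fun d hd =>
      ⟨(S : Subgroup Γ).mul_mem (hconjD hs₀ d hd) ((S : Subgroup Γ).inv_mem hs₀), by
        rw [show d * s₀ * d⁻¹ * s₀⁻¹ = d * (s₀ * d⁻¹ * s₀⁻¹) by group]
        exact C.mul_mem (hDC hd) (h.normal.conj_mem _ (C.inv_mem (hDC hd)) s₀)⟩)
  have hsC : s ∉ C := fun hsC => hs₀C (by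
    have := C.mul_mem hsC (C.inv_mem hs'.2)
    simpa using this)
  have hsd : ∀ d ∈ D, Commute d s := fun d hd => mem_centralizer_iff.mp hsD d hd
  obtain ⟨k, hk⟩ := IsPGroup.iff_orderOf.mp S.2 ⟨s, hsS⟩
  rw [Subgroup.orderOf_mk] at hk
  obtain ⟨g₁, -, hv, hvS⟩ := h.exists_tight_outside h1 h1S
  set v := g₁ * t₁ * g₁⁻¹
  have h2p : ∀ {t : Γ}, orderOf t = 2 → IsPGroup 2 (zpowers t) := fun ht =>
    isPGroup_zpowers_of_orderOf (k := 1) (by simpa using ht)
  rcases k with _ | _ | k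
  · exact hsC ((orderOf_eq_one_iff.mp (hk.trans (pow_zero 2))) ▸ C.one_mem)
  · -- an involution outside `C`
    have hs2 : orderOf s = 2 := by simpa using hk
    have hsB := h.big_out s hs2 hsC
    rcases Nat.even_or_odd (orderOf (s * v)) with he | ho
    · obtain ⟨hc, hsc, hvc⟩ := h.half hs2 hv.1 he
      set c := (s * v) ^ (orderOf (s * v) / 2)
      by_cases hcB : Big c
      · obtain ⟨T, hT⟩ := exists_sylow_mem (h2p hc)
        have e := h.big_uniq s hs2 hsB T S (h.mem_sylow_of_commute hc hcB hT hsc (h2p hs2)) hsS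
        exact hvS (e ▸ h.mem_sylow_of_commute hc hcB hT hvc (h2p hv.1))
      · have hcC : c ∈ C := by
          by_contra hcC
          exact hcB (h.big_out c hc hcC)
        obtain ⟨S', hS'⟩ := exists_sylow_mem (h2p hv.1)
        have hcS' : c ∈ (S' : Subgroup Γ) := h.mem_sylow_of_commute hv.1 hv.2.2 hS' hvc.symm (h2p hc)
        have hs' := mem_of_mem_normalizer S' (h2p hs2)
          (h.centralizer_le hc hcB hsC hsc ⟨hcS', hcC⟩ (mem_centralizer_singleton_iff.mpr hsc.eq))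
        exact hvS ((h.big_uniq s hs2 hsB S' S hs' hsS) ▸ hS')
    · obtain ⟨d, -, he⟩ := Involutions.exists_conj_eq_of_odd (Involutions.mul_self_eq_one_of_orderOf hs2)
        (Involutions.mul_self_eq_one_of_orderOf hv.1) ho
      refine hsC ?_
      have := h.normal.conj_mem v hv.2.1 d⁻¹
      rwa [← he, show d⁻¹ * (d * s * d⁻¹) * d⁻¹⁻¹ = s by group] at this
  -- a loose involution fixed by `D` and `s`
  set x := s ^ 2 ^ (k + 1) with hxdef
  have hx2 : orderOf x = 2 := by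
    refine orderOf_two_of ?_ ?_
    · rw [hxdef, ← pow_add, ← two_mul, ← pow_succ', ← hk, pow_orderOf_eq_one]
    · exact pow_ne_one_of_lt_orderOf (by positivity) (by rw [hk]; exact Nat.pow_lt_pow_right one_lt_two (by omega))
  have hxC : x ∈ C := by
    rw [hxdef, pow_succ', pow_mul, pow_two]
    exact C.pow_mem (h.sq_mem s) _
  have hxS : x ∈ (S : Subgroup Γ) := pow_mem hsS _
  have hxd : ∀ d ∈ D, Commute d x := fun d hd => (hsd d hd).pow_right _
  have hxnB : ¬ Big x := fun hB => by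
    obtain ⟨d, hd, he⟩ := htrans ⟨hx2, hxC, hB⟩ h1 hxS h1S
    obtain ⟨d', hd', he'⟩ := htrans ⟨hx2, hxC, hB⟩ h2 hxS h2S
    rw [(hxd d hd).eq, mul_inv_cancel_right] at he
    rw [(hxd d' hd').eq, mul_inv_cancel_right] at he'
    exact hne (he ▸ he')
  have hsx : Commute s x := (Commute.refl s).pow_right _
  have hle := h.centralizer_le hx2 hxnB hsC hsx ⟨hxS, hxC⟩
  set U : Subgroup Γ := (S : Subgroup Γ) ⊓ C with hU
  by_cases hcen : ∀ u ∈ U, Commute u x
  · refine h.no_isolated S x hx2 hxS fun g hg => ?_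
    have hgn : g ∈ normalizer ((S : Subgroup Γ) : Set Γ) := by
      have hc : Commute t₁ (g * x * g⁻¹) :=
        (h.tight_central h1 h1S ⟨hg, h.normal.conj_mem x hxC g⟩).symm
      have hc' : Commute (g⁻¹ * t₁ * g) x := by
        have := hc.map (MulAut.conj g⁻¹).toMonoidHom
        simpa [mul_assoc] using this
      have hm : g⁻¹ * t₁ * g⁻¹⁻¹ ∈ (S : Subgroup Γ) := by
        rw [inv_inv]
        refine mem_of_mem_normalizer S ?_ (hle (mem_centralizer_singleton_iff.mpr hc'.eq))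
        exact h2p (by simpa using (ZStar.orderOf_conj g⁻¹ t₁).trans h1.1)
      exact inv_mem_iff.mp (h.normalizer_of_conj h1 h1S hm)
    obtain ⟨a, ha, d, hd, rfl⟩ := hfac g hgn
    have hac : Commute a x := by
      by_cases haC : a ∈ C
      · exact hcen a ⟨ha, haC⟩
      · have hc1 := hcen (a * s) ⟨mul_mem ha hsS, h.out_mul haC hsC⟩
        simpa using hc1.mul_left hsx.inv_left
    rw [show a * d * x * (a * d)⁻¹ = a * (d * x * d⁻¹) * a⁻¹ by group, (hxd d hd).eq, mul_inv_cancel_right,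
      hac.eq, mul_inv_cancel_right]
  push Not at hcen
  -- a conjugate of `x` in `U` commuting with it
  have hUp : IsPGroup 2 U := S.2.to_le inf_le_left
  haveI := hUp.isNilpotent
  set W : Subgroup U := (centralizer ({x} : Set Γ)).subgroupOf U with hW
  have hWlt : W < ⊤ := lt_top_iff_ne_top.mpr fun e => by
    obtain ⟨u, hu, hnc⟩ := hcen
    refine hnc ?_
    have : (⟨u, hu⟩ : U) ∈ W := e ▸ mem_top _
    exact mem_centralizer_singleton_iff.mp (mem_subgroupOf.mp this)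
  obtain ⟨⟨u, huU⟩, huN, huW⟩ := SetLike.exists_of_lt (Group.normalizerCondition_of_isNilpotent W hWlt)
  set b := u * x * u⁻¹ with hbdef
  have hxb : Commute x b := by
    have hxW : (⟨x, hxS, hxC⟩ : U) ∈ W := mem_subgroupOf.mpr (mem_centralizer_singleton_iff.mpr rfl)
    have h' := mem_subgroupOf.mp ((mem_normalizer_iff.mp huN _).mp hxW)
    exact (mem_centralizer_singleton_iff.mp h').symm
  have hbne : x ≠ b := fun e => huW (mem_subgroupOf.mpr (mem_centralizer_singleton_iff.mpr (by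
    show u * x = x * u
    calc u * x = b * u := by rw [hbdef]; group
      _ = x * u := by rw [← e])))
  have hb2 : orderOf b = 2 := (ZStar.orderOf_conj u x).trans hx2
  have hbnB : ¬ Big b := fun hB => hxnB (by
    have := h.big_conj u⁻¹ b hB
    rwa [hbdef, show u⁻¹ * (u * x * u⁻¹) * u⁻¹⁻¹ = x by group] at this)
  have hbU : b ∈ U := U.mul_mem (U.mul_mem huU ⟨hxS, hxC⟩) (U.inv_mem huU)
  have heT : Tight C Big (x * b) := ⟨orderOf_mul_of_commute h hx2 hb2 hxb hbne, C.mul_mem hxC hbU.2,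
    h.big_mul x b hx2 hb2 hxnB hbnB hxb hbne⟩
  rcases Nat.even_or_odd (orderOf (x * v)) with he | ho
  swap
  · obtain ⟨d, -, he⟩ := Involutions.exists_conj_eq_of_odd (Involutions.mul_self_eq_one_of_orderOf hx2)
      (Involutions.mul_self_eq_one_of_orderOf hv.1) ho
    refine hxnB ?_
    have := h.big_conj d⁻¹ v hv.2.2
    rwa [← he, show d⁻¹ * (d * x * d⁻¹) * d⁻¹⁻¹ = x by group] at this
  obtain ⟨hc, hxc, hvc⟩ := h.half hx2 hv.1 he
  set c := (x * v) ^ (orderOf (x * v) / 2) with hcdef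
  have hcC : c ∈ C := C.pow_mem (C.mul_mem hxC hv.2.1) _
  have hcS : c ∈ (S : Subgroup Γ) :=
    mem_of_mem_normalizer S (h2p hc) (hle (mem_centralizer_singleton_iff.mpr hxc.symm.eq))
  by_cases hcB : Big c
  · exact hvS (h.mem_sylow_of_commute hc hcB hcS hvc (h2p hv.1))
  by_cases hcx : c = x
  · rw [hcx] at hvc
    exact hvS (mem_of_mem_normalizer S (h2p hv.1) (hle (mem_centralizer_singleton_iff.mpr hvc.eq)))
  have he' : Tight C Big (x * c) := ⟨orderOf_mul_of_commute h hx2 hc hxc (Ne.symm hcx), C.mul_mem hxC hcC,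
    h.big_mul x c hx2 hc hxnB hcB hxc (Ne.symm hcx)⟩
  obtain ⟨d, hd, hde⟩ := htrans heT he' (mul_mem hxS hbU.1) (mul_mem hxS hcS)
  have hc_eq : c = (d * u) * x * (d * u)⁻¹ := by
    have h1' : d * (x * b) * d⁻¹ = x * (d * b * d⁻¹) := by
      rw [show d * (x * b) * d⁻¹ = d * x * d⁻¹ * (d * b * d⁻¹) by group, (hxd d hd).eq, mul_inv_cancel_right]
    rw [h1'] at hde
    rw [← mul_left_cancel hde, hbdef]
    group
  have hduN : d * u ∈ normalizer ((S : Subgroup Γ) : Set Γ) := mul_mem (hDN hd) (le_normalizer huU.1)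
  have hv' : (d * u)⁻¹ * v * (d * u) ∈ normalizer ((S : Subgroup Γ) : Set Γ) := by
    refine hle (mem_centralizer_singleton_iff.mpr ?_)
    have := hvc.map (MulAut.conj (d * u)⁻¹).toMonoidHom
    rw [hc_eq] at this
    simpa [mul_assoc] using this.eq
  refine hvS (mem_of_mem_normalizer S (h2p hv.1) ?_)
  have := mul_mem (mul_mem hduN hv') (inv_mem hduN)
  rwa [show d * u * ((d * u)⁻¹ * v * (d * u)) * (d * u)⁻¹ = v by group] at this

end CfsgLib.AfterFT.CyclicIntersect
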