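import Cfsg.Agent.Lib.AfterFT.CyclicIntersect.Abstract
import Cfsg.Agent.S3305
import Cfsg.Agent.Lib.PSolvable

/-!
Row 3306, given the odd order theorem: in a nonsolvable group with cyclic intersections of Sylow 2-subgroups a
solvable normal subgroup is a central cyclic 2-group modulo the odd core. The heart is that a normal cyclic
2-subgroup is central, by induction on the order.
-/

set_option autoImplicit false
set_option linter.unusedSectionVars false
set_option linter.style.haveILetI false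

namespace CfsgLib.AfterFT.CyclicIntersect

open Cfsg Subgroup
open scoped Pointwise

universe u

theorem cyc_subgroup {G : Type u} [Group G] [Finite G]
    (hP : ∀ S T : Sylow 2 G, S ≠ T → IsCyclic ↥((S : Subgroup G) ⊓ (T : Subgroup G))) (H : Subgroup G) :
    ∀ P R : Sylow 2 H, P ≠ R → IsCyclic ↥((P : Subgroup H) ⊓ (R : Subgroup H)) := by
  haveI : Fact (Nat.Prime 2) := ⟨Nat.prime_two⟩
  intro P R hne
  obtain ⟨P₁, hP₁⟩ := P.exists_comap_subtype_eq
  obtain ⟨R₁, hR₁⟩ := R.exists_comap_subtype_eq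
  haveI := hP P₁ R₁ (fun e => hne (Sylow.ext (by rw [← hP₁, ← hR₁, e])))
  have hle : ((P : Subgroup H) ⊓ (R : Subgroup H)).map H.subtype ≤ (P₁ : Subgroup G) ⊓ R₁ := by
    rw [← hP₁, ← hR₁, ← comap_inf]
    exact map_comap_le _ _
  haveI := Subgroup.isCyclic_of_le hle
  exact isCyclic_of_injective (equivMapOfInjective _ H.subtype H.subtype_injective).toMonoidHom
    (MulEquiv.injective _)

theorem not_solvable_quotient {G : Type u} [Group G] (N : Subgroup G) [N.Normal] [Group.IsSolvable N]
    (h : ¬ Group.IsSolvable G) : ¬ Group.IsSolvable (G ⧸ N) := fun hs =>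
  h (haveI := hs
    Group.isSolvable_of_ker_le_range N.subtype (QuotientGroup.mk' N)
      (by rw [QuotientGroup.ker_mk', Subgroup.range_subtype]))

section Aux

variable {G : Type u} [Group G] [Finite G] (Q : Subgroup G) [Q.Normal]

/-- The preimage of a cyclic subgroup of the quotient. -/
def pre (t : G ⧸ Q) : Subgroup G := (zpowers t).comap (QuotientGroup.mk' Q)

/-- The preimage is not cyclic. -/
def NotCyc (t : G ⧸ Q) : Prop := ¬ IsCyclic (pre Q t)

theorem mk_eq_one {x : G} (hx : x ∈ Q) : QuotientGroup.mk' Q x = 1 := (QuotientGroup.eq_one_iff x).mpr hx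

theorem le_pre (t : G ⧸ Q) : Q ≤ pre Q t := fun x hx => by
  show QuotientGroup.mk' Q x ∈ zpowers t
  rw [mk_eq_one Q hx]
  exact one_mem _

theorem mem_pre {g : G} : g ∈ pre Q (QuotientGroup.mk' Q g) := mem_zpowers _

theorem pre_isPGroup (hQ2 : IsPGroup 2 Q) {t : G ⧸ Q} (ht : orderOf t = 2) : IsPGroup 2 (pre Q t) :=
  (IsPGroup.of_card (p := 2) (n := 1) (by rw [Nat.card_zpowers, ht, pow_one])).comap_of_ker_isPGroup _
    (by rw [QuotientGroup.ker_mk']; exact hQ2)

theorem pre_conj (g : G) (t : G ⧸ Q) :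
    (pre Q t).map (MulAut.conj g).toMonoidHom =
      pre Q (QuotientGroup.mk' Q g * t * (QuotientGroup.mk' Q g)⁻¹) := by
  ext x
  have hz : zpowers (QuotientGroup.mk' Q g * t * (QuotientGroup.mk' Q g)⁻¹) =
      (zpowers t).map (MulAut.conj (QuotientGroup.mk' Q g)).toMonoidHom := by
    rw [MonoidHom.map_zpowers]
    rfl
  simp only [pre, mem_map, mem_comap, hz]
  constructor
  · rintro ⟨y, hy, rfl⟩
    exact ⟨_, hy, by simp⟩
  · rintro ⟨y, hy, he⟩
    refine ⟨g⁻¹ * x * g, ?_, by simp [mul_assoc]⟩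
    rw [map_mul, map_mul, map_inv, ← he]
    simpa [mul_assoc] using hy

theorem orderOf_mul_of_commute' {X : Type u} [Group X] [Finite X] {a b : X} (ha : orderOf a = 2) (hb : orderOf b = 2)
    (hc : Commute a b) (hne : a ≠ b) : orderOf (a * b) = 2 := by
  refine orderOf_two_of ?_ fun e => hne ?_
  · rw [mul_assoc, ← mul_assoc b a b, ← hc.eq, mul_assoc a b b, ZStar.sq_eq_one hb, mul_one, ZStar.sq_eq_one ha]
  · rw [mul_eq_one_iff_eq_inv, ZStar.inv_eq_self hb] at e
    exact e

theorem two_power_coprime {n k : ℕ} (hn : Odd n) : n.Coprime (2 ^ k) :=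
  Nat.Coprime.pow_right k (Nat.coprime_two_right.mpr hn)

end Aux

/-- A normal cyclic 2-subgroup of a nonsolvable group with cyclic intersections of Sylow 2-subgroups is
central. -/
theorem le_center (odd : ∀ (H : Type u) [Group H] [Finite H], Odd (Nat.card H) → Group.IsSolvable H) :
    ∀ (n : ℕ) (G : Type u) [Group G] [Finite G], Nat.card G = n → ¬ Group.IsSolvable G →
      (∀ S T : Sylow 2 G, S ≠ T → IsCyclic ↥((S : Subgroup G) ⊓ (T : Subgroup G))) →
      ∀ Q : Subgroup G, Q.Normal → IsCyclic Q → IsPGroup 2 Q → Q ≤ Subgroup.center G := by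
  intro n
  induction n using Nat.strongRecOn with
  | _ n ih =>
  intro G _ _ hcard hns hP
  classical
  haveI : Fact (Nat.Prime 2) := ⟨Nat.prime_two⟩
  by_contra hcon
  push Not at hcon
  obtain ⟨Q, ⟨hQn, hQc, hQ2, hQz⟩, hmax⟩ := Set.exists_max_image
    {Q : Subgroup G | Q.Normal ∧ IsCyclic Q ∧ IsPGroup 2 Q ∧ ¬ Q ≤ Subgroup.center G}
    (fun Q => Nat.card Q) (Set.toFinite _) hcon
  haveI := hQn
  haveI := hQc
  have hmax' : ∀ A : Subgroup G, Q ≤ A → ¬ A ≤ Q → A.Normal → IsCyclic A → IsPGroup 2 A → False := by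
    intro A hle hnle hn hc h2
    have h1 := hmax A ⟨hn, hc, h2, fun h => hQz (hle.trans h)⟩
    exact hnle (ge_of_eq (eq_of_le_of_card_ge hle h1))
  -- no odd core
  have hO : oddCore G = ⊥ := by
    by_contra hO
    haveI : Group.IsSolvable (oddCore G) := odd _ odd_card_oddCore
    have hlt : Nat.card (G ⧸ oddCore G) < n := by
      rw [← hcard, card_eq_card_quotient_mul_card_subgroup (oddCore G)]
      exact lt_mul_of_one_lt_right Nat.card_pos (one_lt_card_iff_ne_bot _ |>.mpr hO)
    haveI : IsCyclic (Q.map (QuotientGroup.mk' (oddCore G))) :=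
      isCyclic_of_surjective ((QuotientGroup.mk' _).subgroupMap Q) (MonoidHom.subgroupMap_surjective _ _)
    have h1 := ih _ hlt (G ⧸ oddCore G) rfl (not_solvable_quotient _ hns) (Cfsg.Agent.S3305.result hP _)
      (Q.map (QuotientGroup.mk' _)) (hQn.map _ (QuotientGroup.mk'_surjective _)) inferInstance (hQ2.map _)
    refine hQz fun x hx => Subgroup.mem_center_iff.mpr fun g => ?_
    have h2 := Subgroup.mem_center_iff.mp (h1 (mem_map_of_mem _ hx)) (QuotientGroup.mk' _ g)
    rw [← map_mul, ← map_mul] at h2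
    have h3 := QuotientGroup.eq.mp h2
    have h4 : (g * x)⁻¹ * (x * g) ∈ Q := by
      rw [show (g * x)⁻¹ * (x * g) = x⁻¹ * (g⁻¹ * x * g⁻¹⁻¹) by group]
      exact Q.mul_mem (Q.inv_mem hx) (hQn.conj_mem x hx g⁻¹)
    obtain ⟨a, ha⟩ := hQ2.exists_card_eq
    have hdis : oddCore G ⊓ Q = ⊥ := inf_eq_bot_of_coprime (by
      rw [ha]; exact two_power_coprime odd_card_oddCore)
    have h5 : (g * x)⁻¹ * (x * g) = 1 := mem_bot.mp (hdis ▸ ⟨h3, h4⟩)
    exact inv_mul_eq_one.mp h5
  obtain ⟨q, hq⟩ := (Subgroup.isCyclic_iff_exists_zpowers_eq_top Q).mp hQc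
  obtain ⟨a, ha⟩ := hQ2.exists_card_eq
  have hqQ : q ∈ Q := hq ▸ mem_zpowers q
  have hordq : orderOf q = 2 ^ a := by rw [← Nat.card_zpowers, hq, ha]
  have hqmem : ∀ x ∈ Q, ∃ i : ℤ, q ^ i = x := fun x hx => mem_zpowers_iff.mp (hq ▸ hx)
  have hqconj : ∀ g : G, g * q * g⁻¹ = q → g ∈ centralizer (Q : Set G) := fun g hg => by
    rw [mem_centralizer_iff]
    intro x hx
    obtain ⟨i, rfl⟩ := hqmem x hx
    exact ((Commute.zpow_right (mul_inv_eq_iff_eq_mul.mp hg : Commute g q) i).symm).eq
  have ha2 : 2 ≤ a := by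
    by_contra ha1
    push Not at ha1
    refine hQz fun x hx => Subgroup.mem_center_iff.mpr fun g => ?_
    by_cases hx1 : x = 1
    · simp [hx1]
    have hx2 : x ^ (2 ^ a) = 1 := by
      have := congrArg Subtype.val (pow_card_eq_one' (x := (⟨x, hx⟩ : Q)))
      rwa [ha] at this
    interval_cases a
    · exact absurd (by simpa using hx2) hx1
    have ho : orderOf x = 2 := orderOf_eq_prime (by simpa using hx2) hx1
    have he := BSW.unique_involution_of_cyclic Q (hQn.conj_mem x hx g) hx ((ZStar.orderOf_conj g x).trans ho) ho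
    exact mul_inv_eq_iff_eq_mul.mp he
  set z := q ^ (2 ^ (a - 1)) with hz
  have hzord : orderOf z = 2 := by
    rw [hz, orderOf_pow, hordq, Nat.gcd_eq_right (pow_dvd_pow 2 (Nat.sub_le a 1)),
      Nat.pow_div (Nat.sub_le a 1) two_pos, show a - (a - 1) = 1 by omega, pow_one]
  have hzQ : z ∈ Q := pow_mem hqQ _
  have hzc : ∀ g : G, g * z * g⁻¹ = z := fun g =>
    BSW.unique_involution_of_cyclic Q (hQn.conj_mem z hzQ g) hzQ ((ZStar.orderOf_conj g z).trans hzord) hzord
  have hzeven : ∃ j : ℤ, q ^ (2 * j) = z := ⟨(2 ^ (a - 2) : ℕ), by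
    rw [hz, ← zpow_natCast q (2 ^ (a - 1)), show (2 : ℕ) ^ (a - 1) = 2 * 2 ^ (a - 2) by
      rw [← pow_succ']; congr 1; omega]
    push_cast
    rfl⟩
  haveI hZn : (zpowers z).Normal := ⟨fun x hx g => by
    obtain ⟨i, rfl⟩ := mem_zpowers_iff.mp hx
    rw [← conj_zpow, hzc g]
    exact zpow_mem (mem_zpowers z) i⟩
  -- two cosets in `Aut Q`
  have hrule : ∀ g : G, g * q * g⁻¹ = q ∨ g * q * g⁻¹ = q * z := by
    intro g
    have hlt : Nat.card (G ⧸ zpowers z) < n := by
      rw [← hcard, card_eq_card_quotient_mul_card_subgroup (zpowers z)]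
      exact lt_mul_of_one_lt_right Nat.card_pos (by rw [Nat.card_zpowers, hzord]; omega)
    haveI : IsCyclic (Q.map (QuotientGroup.mk' (zpowers z))) :=
      isCyclic_of_surjective ((QuotientGroup.mk' _).subgroupMap Q) (MonoidHom.subgroupMap_surjective _ _)
    have h1 := ih _ hlt (G ⧸ zpowers z) rfl (not_solvable_quotient _ hns) (Cfsg.Agent.S3305.result hP _)
      (Q.map (QuotientGroup.mk' _)) (hQn.map _ (QuotientGroup.mk'_surjective _)) inferInstance (hQ2.map _)
    have h2 := Subgroup.mem_center_iff.mp (h1 (mem_map_of_mem _ hqQ)) (QuotientGroup.mk' _ g)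
    rw [← map_mul, ← map_mul] at h2
    have h3 := QuotientGroup.eq.mp h2.symm
    have h4 : q⁻¹ * (g * q * g⁻¹) = g * ((q * g)⁻¹ * (g * q)) * g⁻¹ := by group
    obtain ⟨i, hi⟩ := mem_zpowers_iff.mp (h4 ▸ hZn.conj_mem _ h3 g : q⁻¹ * (g * q * g⁻¹) ∈ zpowers z)
    have hi2 : z ^ i = 1 ∨ z ^ i = z := by
      rw [← zpow_mod_orderOf, hzord]
      rcases Int.emod_two_eq_zero_or_one i with e | e
      · left; rw [show ((2 : ℕ) : ℤ) = 2 from rfl, e, zpow_zero]
      · right; rw [show ((2 : ℕ) : ℤ) = 2 from rfl, e, zpow_one]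
    rcases hi2 with e | e
    · exact Or.inl (inv_mul_eq_one.mp (hi.symm.trans e)).symm
    · exact Or.inr (by rw [← e, hi, mul_inv_cancel_left])
  set C₀ : Subgroup G := centralizer (Q : Set G) with hC₀
  have hout : ∀ g, g ∉ C₀ → g * q * g⁻¹ = q * z := fun g hg =>
    (hrule g).resolve_left fun e => hg (hqconj g e)
  have hQC₀ : Q ≤ C₀ := fun x hx => by
    rw [hC₀, mem_centralizer_iff]
    intro y hy
    obtain ⟨i, rfl⟩ := hqmem x hx
    obtain ⟨j, rfl⟩ := hqmem y hy
    exact ((Commute.refl q).zpow_zpow j i).eq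
  have hidx : C₀.index = 2 := by
    obtain ⟨g₀, hg₀⟩ : ∃ g, g ∉ C₀ := by
      by_contra hall
      push Not at hall
      exact hQz fun x hx => Subgroup.mem_center_iff.mpr fun g =>
        (mem_centralizer_iff.mp (hall g) x hx).symm
    refine index_eq_two_iff.mpr ⟨g₀, fun b => ?_⟩
    by_cases hb : b ∈ C₀
    · exact Or.inr ⟨hb, fun hb' => hg₀ ((C₀.mul_mem_cancel_left hb).mp hb')⟩
    · refine Or.inl ⟨hqconj _ ?_, hb⟩
      calc b * g₀ * q * (b * g₀)⁻¹ = b * (g₀ * q * g₀⁻¹) * b⁻¹ := by group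
        _ = (b * q * b⁻¹) * (b * z * b⁻¹) := by rw [hout g₀ hg₀]; group
        _ = q * (z * z) := by rw [hout b hb, hzc b, mul_assoc]
        _ = q := by rw [ZStar.sq_eq_one hzord, mul_one]
  set π := QuotientGroup.mk' Q with hπ
  have hπs : Function.Surjective π := QuotientGroup.mk'_surjective Q
  set C := C₀.map π with hC
  have hker : π.ker ≤ C₀ := by rw [QuotientGroup.ker_mk']; exact hQC₀
  have hmemC : ∀ g, π g ∈ C ↔ g ∈ C₀ := fun g => by
    rw [hC, ← mem_comap, comap_map_eq_self hker]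
  have hCidx : C.index = 2 := by rw [hC, index_map_eq C₀ hπs hker, hidx]
  have hns' : ¬ Group.IsSolvable (G ⧸ Q) := by
    haveI : Group.IsNilpotent Q := hQ2.isNilpotent
    exact not_solvable_quotient Q hns
  have hP' := Cfsg.Agent.S3305.result hP Q
  -- lifts whose square is an even power of the generator
  have hbig : ∀ (g : G) (j : ℤ), orderOf (π g) = 2 → g ∈ C₀ → g * g = q ^ (2 * j) → NotCyc Q (π g) := by
    intro g j hg hgC hsq hcyc
    haveI := hcyc
    set y := g * (q ^ j)⁻¹
    have hqc : Commute g (q ^ j) := ((mem_centralizer_iff.mp hgC) _ (zpow_mem hqQ j)).symm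
    have hy1 : y * y = 1 := by
      have hc' : Commute g (q ^ j)⁻¹ := hqc.inv_right
      show g * (q ^ j)⁻¹ * (g * (q ^ j)⁻¹) = 1
      rw [mul_assoc, ← mul_assoc (q ^ j)⁻¹ g, ← hc'.eq, mul_assoc g _ (q ^ j)⁻¹, ← mul_assoc g g, hsq, two_mul,
        zpow_add]
      group
    have hyQ : y ∉ Q := fun hy => by
      have : g ∈ Q := by simpa [y] using Q.mul_mem hy (zpow_mem hqQ j)
      rw [show π g = 1 from mk_eq_one Q this, orderOf_one] at hg
      omega
    have hyA : y ∈ pre Q (π g) := mul_mem (mem_pre Q) (inv_mem (le_pre Q _ (zpow_mem hqQ j)))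
    have hy2 : orderOf y = 2 := orderOf_two_of hy1 (fun e => hyQ (e ▸ Q.one_mem))
    exact hyQ (BSW.unique_involution_of_cyclic (pre Q (π g)) hyA (le_pre Q _ hzQ) hy2 hzord ▸ hzQ)
  have hin : ∀ t, orderOf t = 2 → ¬ NotCyc Q t → t ∈ C := by
    intro t ht hc
    haveI : IsCyclic (pre Q t) := not_not.mp hc
    obtain ⟨g, rfl⟩ := hπs t
    rw [hmemC]
    refine hqconj g (mul_inv_eq_iff_eq_mul.mpr ?_)
    letI := IsCyclic.commGroup (α := pre Q (π g))
    exact congrArg Subtype.val (mul_comm (⟨g, mem_pre Q⟩ : pre Q (π g)) ⟨q, le_pre Q _ hqQ⟩)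
  have hsqQ : ∀ g, orderOf (π g) = 2 → g * g ∈ Q := fun g hg => by
    rw [← QuotientGroup.eq_one_iff, QuotientGroup.mk_mul]
    exact ZStar.sq_eq_one hg
  have hodd : ∀ g, orderOf (π g) = 2 → g ∈ C₀ → ¬ NotCyc Q (π g) → ∃ i : ℤ, Odd i ∧ g * g = q ^ i := by
    intro g hg hgC hc
    obtain ⟨i, hi⟩ := hqmem _ (hsqQ g hg)
    refine ⟨i, ?_, hi.symm⟩
    by_contra he
    obtain ⟨j, rfl⟩ := Int.not_odd_iff_even.mp he
    exact hc (hbig g j hg hgC (by rw [← hi, two_mul]))
  -- an involution above a tight involution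
  have hlift : ∀ t, orderOf t = 2 → t ∈ C → NotCyc Q t → ∃ g, π g = t ∧ g ∈ C₀ ∧ g * g = 1 := by
    intro t ht htC hB
    obtain ⟨g, rfl⟩ := hπs t
    have hgC := (hmemC g).mp htC
    obtain ⟨i, hi⟩ := hqmem _ (hsqQ g ht)
    rcases Int.even_or_odd i with ⟨j, rfl⟩ | hio
    · refine ⟨g * (q ^ j)⁻¹, ?_, C₀.mul_mem hgC (C₀.inv_mem (hQC₀ (zpow_mem hqQ j))), ?_⟩
      · rw [map_mul, map_inv, show π (q ^ j) = 1 from mk_eq_one Q (zpow_mem hqQ j), inv_one, mul_one]
      · have hqc : Commute g (q ^ j)⁻¹ :=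
          Commute.inv_right (((mem_centralizer_iff.mp hgC) _ (zpow_mem hqQ j)).symm)
        rw [mul_assoc, ← mul_assoc (q ^ j)⁻¹ g, ← hqc.eq, mul_assoc g _ (q ^ j)⁻¹, ← mul_assoc g g, ← hi, zpow_add]
        group
    · exfalso
      apply hB
      have hco : i.natAbs.Coprime (2 ^ a) := two_power_coprime (Int.natAbs_odd.mpr hio)
      have hQle : Q ≤ zpowers g := by
        have h1 : q ^ i ∈ zpowers g := hi ▸ mul_mem (mem_zpowers g) (mem_zpowers g)
        have h2 : q ∈ zpowers (q ^ i) := by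
          obtain ⟨x, y, hxy⟩ : ∃ x y : ℤ, x * i + y * ((2 ^ a : ℕ) : ℤ) = 1 :=
            Int.isCoprime_iff_gcd_eq_one.mpr (by simpa [Int.gcd, Nat.Coprime] using hco)
          refine mem_zpowers_iff.mpr ⟨x, ?_⟩
          calc (q ^ i) ^ x = q ^ (i * x) := (zpow_mul q i x).symm
            _ = q ^ (i * x) * (q ^ ((2 ^ a : ℕ) : ℤ)) ^ y := by
              rw [zpow_natCast, ← hordq, pow_orderOf_eq_one, one_zpow, mul_one]
            _ = q ^ (x * i + y * ((2 ^ a : ℕ) : ℤ)) := by rw [← zpow_mul, ← zpow_add]; congr 1; ring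
            _ = q := by rw [hxy, zpow_one]
        rw [← hq]
        exact zpowers_le.mpr (zpowers_le.mpr h1 h2)
      have hle : pre Q (π g) ≤ zpowers g := by
        intro x hx
        obtain ⟨k, hk⟩ := mem_zpowers_iff.mp hx
        rw [← map_zpow] at hk
        have := QuotientGroup.eq.mp hk
        simpa using mul_mem (zpow_mem (mem_zpowers g) k) (hQle this)
      exact Subgroup.isCyclic_of_le hle
  have key : Hyp C (NotCyc Q) := by
    refine ⟨odd, hns', hP', hCidx, ?_, ?_, ?_, ?_, ?_, ?_, ?_⟩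
    · intro g t ht hc
      obtain ⟨g, rfl⟩ := hπs g
      refine ht ?_
      haveI : IsCyclic ((pre Q t).map (MulAut.conj g).toMonoidHom) := by rw [pre_conj]; exact hc
      exact isCyclic_of_injective
        (equivMapOfInjective (pre Q t) (MulAut.conj g).toMonoidHom (MulAut.conj g).injective).toMonoidHom
        (MulEquiv.injective _)
    · intro t ht htC
      by_contra hc
      exact htC (hin t ht hc)
    · intro t ht hB S T hS hT
      obtain ⟨A₁, hA₁⟩ := (S.2.comap_of_ker_isPGroup π (by rw [QuotientGroup.ker_mk']; exact hQ2)).exists_le_sylow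
      obtain ⟨A₂, hA₂⟩ := (T.2.comap_of_ker_isPGroup π (by rw [QuotientGroup.ker_mk']; exact hQ2)).exists_le_sylow
      have e : A₁ = A₂ := by
        by_contra hne
        haveI := hP A₁ A₂ hne
        exact hB (Subgroup.isCyclic_of_le (le_inf ((comap_mono (zpowers_le.mpr hS)).trans hA₁)
          ((comap_mono (zpowers_le.mpr hT)).trans hA₂)))
      subst e
      have h1 : (S : Subgroup (G ⧸ Q)) ≤ (A₁ : Subgroup G).map π := by
        rw [← map_comap_eq_self_of_surjective hπs (S : Subgroup (G ⧸ Q))]; exact map_mono hA₁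
      have h2 : (T : Subgroup (G ⧸ Q)) ≤ (A₁ : Subgroup G).map π := by
        rw [← map_comap_eq_self_of_surjective hπs (T : Subgroup (G ⧸ Q))]; exact map_mono hA₂
      exact Sylow.ext ((S.3 (A₁.2.map π) h1).symm.trans (T.3 (A₁.2.map π) h2))
    · intro t t' ht ht' hc hc' hcomm hne
      obtain ⟨b, rfl⟩ := hπs t
      obtain ⟨c, rfl⟩ := hπs t'
      have hbC := (hmemC b).mp (hin _ ht hc)
      have hcC := (hmemC c).mp (hin _ ht' hc')
      obtain ⟨i, hi, hbb⟩ := hodd b ht hbC hc
      obtain ⟨k, hk, hcc⟩ := hodd c ht' hcC hc'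
      set e := b⁻¹ * (c * b * c⁻¹) with he
      have heQ : e ∈ Q := by
        rw [← QuotientGroup.eq_one_iff]
        show π e = 1
        rw [he, map_mul, map_mul, map_mul, map_inv, map_inv, ← hcomm.eq, mul_inv_cancel_right, inv_mul_cancel]
      have hbe : Commute b e := ((mem_centralizer_iff.mp hbC) e heQ).symm
      have hcb : c * b * c⁻¹ = b * e := by rw [he, mul_inv_cancel_left]
      have hee : e * e = 1 := by
        have h1 : c * (b * b) * c⁻¹ = b * b := by
          rw [hbb, ((mem_centralizer_iff.mp hcC) _ (zpow_mem hqQ i)).symm, mul_inv_cancel_right]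
        rw [show c * (b * b) * c⁻¹ = (c * b * c⁻¹) * (c * b * c⁻¹) by group, hcb, mul_assoc, ← mul_assoc e b e,
          ← hbe.eq, mul_assoc b e e, ← mul_assoc b b (e * e)] at h1
        exact mul_eq_left.mp h1
      obtain ⟨l, hl⟩ : ∃ l : ℤ, q ^ (2 * l) = e := by
        by_cases h1 : e = 1
        · exact ⟨0, by simp [h1]⟩
        · rw [BSW.unique_involution_of_cyclic Q heQ hzQ (orderOf_two_of hee h1) hzord]; exact hzeven
      obtain ⟨j, hj⟩ : Even (i + k) := hi.add_odd hk
      rw [← map_mul]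
      refine hbig (b * c) (l + j) (by rw [map_mul]; exact orderOf_mul_of_commute' ht ht' hcomm hne)
        (C₀.mul_mem hbC hcC) ?_
      have hcb' : c * b = b * e * c := by rw [← hcb]; group
      calc b * c * (b * c) = b * (c * b) * c := by group
        _ = (b * b) * e * (c * c) := by rw [hcb']; group
        _ = q ^ (2 * (l + j)) := by
          rw [hbb, hcc, ← hl, ← zpow_add, ← zpow_add]
          congr 1
          omega
    · intro v w hv hw hvC hwC hBv hBw hev
      obtain ⟨v₀, rfl, hv₀C, hv₀⟩ := hlift v hv hvC hBv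
      obtain ⟨w₀, rfl, hw₀C, hw₀⟩ := hlift w hw hwC hBw
      set N := orderOf (π v₀ * π w₀) / 2 with hN
      rw [← map_mul, ← map_pow]
      set c := (v₀ * w₀) ^ N with hc
      have hπc : orderOf (π c) = 2 := by
        rw [hc, map_pow, map_mul]
        exact Involutions.orderOf_half hev
      have hcC : c ∈ C₀ := C₀.pow_mem (C₀.mul_mem hv₀C hw₀C) _
      have hinv : v₀ * c * v₀⁻¹ = c⁻¹ := by
        rw [hc, ← conj_pow, Involutions.conj_mul_eq_inv hv₀ hw₀, inv_pow]
      have hcQ := hsqQ c hπc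
      have h1 : v₀ * (c * c) * v₀⁻¹ = c * c := by
        rw [((mem_centralizer_iff.mp hv₀C) _ hcQ).symm, mul_inv_cancel_right]
      rw [show v₀ * (c * c) * v₀⁻¹ = (v₀ * c * v₀⁻¹) * (v₀ * c * v₀⁻¹) by group, hinv, ← mul_inv_rev] at h1
      have h2 : c * c * (c * c) = 1 := by nth_rewrite 1 [← h1]; exact inv_mul_cancel _
      obtain ⟨j, hj⟩ : ∃ j : ℤ, q ^ (2 * j) = c * c := by
        by_cases h3 : c * c = 1
        · exact ⟨0, by simp [h3]⟩
        · rw [BSW.unique_involution_of_cyclic Q hcQ hzQ (orderOf_two_of h2 h3) hzord]; exact hzeven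
      exact hbig c j hπc hcC hj.symm
    · intro t ht hc hnsol
      set H := (centralizer ({t} : Set (G ⧸ Q))).comap π with hH
      have hnsH : ¬ Group.IsSolvable H := fun hs => hnsol (by
        haveI := hs
        exact Group.isSolvable_of_surjective (MonoidHom.subgroupComap_surjective_of_surjective π _ hπs))
      haveI : IsCyclic (pre Q t) := not_not.mp hc
      have hAH : pre Q t ≤ H := fun x hx => by
        obtain ⟨i, hi⟩ := mem_zpowers_iff.mp hx
        rw [hH, mem_comap, ← hi, mem_centralizer_singleton_iff]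
        exact (((Commute.refl t).zpow_left i)).eq
      have hn : ∀ g ∈ H, ∀ x ∈ pre Q t, g * x * g⁻¹ ∈ pre Q t := fun g hg x hx => by
        obtain ⟨i, hi⟩ := mem_zpowers_iff.mp hx
        have hgt : Commute (π g) t := mem_centralizer_singleton_iff.mp hg
        refine mem_zpowers_iff.mpr ⟨i, ?_⟩
        rw [map_mul, map_mul, map_inv, ← hi, (hgt.zpow_right i).eq, mul_inv_cancel_right]
      have hlt : Nat.card H < n := by
        refine lt_of_le_of_ne (hcard ▸ card_le_card_group H) fun e => ?_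
        have htop : H = ⊤ := eq_top_of_card_eq H (e.trans hcard.symm)
        refine hmax' (pre Q t) (le_pre Q t) (fun hle => ?_)
          ⟨fun x hx g => hn g (htop ▸ mem_top g) x hx⟩ inferInstance (pre_isPGroup Q hQ2 ht)
        obtain ⟨g, rfl⟩ := hπs t
        rw [show π g = 1 from mk_eq_one Q (hle (mem_pre Q)),
          orderOf_one] at ht
        omega
      haveI : ((pre Q t).subgroupOf H).Normal := ⟨fun x hx g => hn g g.2 x hx⟩
      haveI : IsCyclic ((pre Q t).subgroupOf H) :=
        isCyclic_of_injective (subgroupOfEquivOfLe hAH).toMonoidHom (MulEquiv.injective _)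
      have hz' := ih _ hlt H rfl hnsH (cyc_subgroup hP H) _ inferInstance inferInstance
        ((pre_isPGroup Q hQ2 ht).of_equiv (subgroupOfEquivOfLe hAH).symm)
      intro y hy
      obtain ⟨g, rfl⟩ := hπs y
      rw [hmemC]
      refine hqconj g (mul_inv_eq_iff_eq_mul.mpr ?_)
      exact congrArg Subtype.val (Subgroup.mem_center_iff.mp
        (hz' (x := ⟨q, hAH (le_pre Q t hqQ)⟩) (le_pre Q t hqQ)) ⟨g, hy⟩)
    · intro S t ht htS hiso
      have hcore : pPrimeCore 2 (G ⧸ Q) = ⊥ := by
        set N := (pPrimeCore 2 (G ⧸ Q)).comap π with hN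
        have hQN : Q ≤ N := fun x hx => by
          rw [hN, mem_comap, show π x = 1 from mk_eq_one Q hx]
          exact one_mem _
        have hNC : N ≤ C₀ := fun x hx => by
          have ho : Odd (orderOf (π x)) := Odd.of_dvd_nat (odd_card_oddCore (G := G ⧸ Q)) (Subgroup.orderOf_dvd_natCard _ hx)
          obtain ⟨j, hj⟩ := ho
          by_contra hxC
          have h1 : x ^ (2 * j) ∈ C₀ := by
            rw [pow_mul, pow_two]
            exact C₀.pow_mem ((mul_mem_iff_of_index_two hidx).mpr Iff.rfl) j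
          have h2 : x ^ (2 * j + 1) ∈ C₀ := hQC₀ ((QuotientGroup.eq_one_iff _).mp (by
            show π (x ^ (2 * j + 1)) = 1
            rw [map_pow, ← hj, pow_orderOf_eq_one]))
          rw [pow_succ] at h2
          exact hxC ((C₀.mul_mem_cancel_left h1).mp h2)
        haveI : (Q.subgroupOf N).Normal := Subgroup.normal_subgroupOf
        have hidxo : Odd (Q.subgroupOf N).index := by
          have h1 := card_mul_index (Q.subgroupOf N)
          rw [Nat.card_congr (subgroupOfEquivOfLe hQN).toEquiv, card_comap_mk] at h1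
          rw [Nat.eq_of_mul_eq_mul_left Nat.card_pos h1]
          exact odd_card_oddCore
        obtain ⟨D, hD⟩ := exists_right_complement'_of_coprime (N := Q.subgroupOf N)
          (by rw [Nat.card_congr (subgroupOfEquivOfLe hQN).toEquiv, ha]; exact (two_power_coprime hidxo).symm)
        have hDo : Odd (Nat.card D) := by rw [← hD.symm.index_eq_card]; exact hidxo
        haveI hDn : (D.map N.subtype).Normal := ⟨fun x hx g => by
          obtain ⟨d, hd, rfl⟩ := hx
          have hNn : N.Normal := inferInstance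
          have hgN := hNn.conj_mem (d : G) d.2 g
          obtain ⟨⟨⟨x, hxQ⟩, ⟨d', hd'⟩⟩, he, -⟩ := hD.existsUnique ⟨_, hgN⟩
          have he' : (x : G) * d' = g * d * g⁻¹ := congrArg Subtype.val he
          have hcomm : Commute (x : G) d' := (mem_centralizer_iff.mp (hNC d'.2) x hxQ)
          have hpow : ∀ w ∈ D, ((w : N) : G) ^ Nat.card D = 1 := fun w hw => by
            have := congrArg (fun y : D => ((y : N) : G)) (pow_card_eq_one' (x := (⟨w, hw⟩ : D)))
            exact this
          have h1 : (x : G) ^ Nat.card D = 1 := by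
            have h2 : (g * d * g⁻¹) ^ Nat.card D = 1 := by rw [conj_pow, hpow d hd]; group
            rwa [← he', hcomm.mul_pow, hpow d' hd', mul_one] at h2
          have hx1 : (x : G) = 1 := by
            have h3 : (x : G) ^ (2 ^ a) = 1 := by
              have := congrArg Subtype.val (pow_card_eq_one' (x := (⟨x, hxQ⟩ : Q)))
              rwa [ha] at this
            have h4 := pow_gcd_eq_one.mpr ⟨h1, h3⟩
            rwa [(two_power_coprime hDo).gcd_eq_one, pow_one] at h4
          refine ⟨d', hd', ?_⟩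
          rw [coe_subtype, ← he', hx1, one_mul]⟩
        have hDbot : D.map N.subtype = ⊥ := le_bot_iff.mp (hO ▸ le_oddCore
          (by rw [card_map_of_injective N.subtype_injective]; exact hDo))
        rw [eq_bot_iff]
        intro y hy
        obtain ⟨g, rfl⟩ := hπs y
        obtain ⟨⟨⟨x, hxQ⟩, ⟨d', hd'⟩⟩, he, -⟩ := hD.existsUnique (⟨g, hy⟩ : N)
        have hd1 : ((d' : N) : G) = 1 := mem_bot.mp (hDbot ▸ mem_map_of_mem N.subtype hd')
        have he' : (x : G) * d' = g := congrArg Subtype.val he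
        rw [hd1, mul_one] at he'
        exact mem_bot.mpr ((QuotientGroup.eq_one_iff g).mpr (he' ▸ hxQ))
      have hcen : t ∈ Subgroup.center (G ⧸ Q) := Subgroup.mem_center_iff.mpr fun g => by
        have := ZStar.commutator_mem ht (ZStar.isolated_of_sylow S ht htS hiso) g
        rw [hcore, mem_bot, mul_inv_eq_one, mul_inv_eq_iff_eq_mul] at this
        exact this.symm
      haveI hAn : (pre Q t).Normal := ⟨fun x hx g => by
        obtain ⟨i, hi⟩ := mem_zpowers_iff.mp hx
        refine mem_zpowers_iff.mpr ⟨i, ?_⟩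
        rw [map_mul, map_mul, map_inv, ← hi,
          Subgroup.mem_center_iff.mp ((Subgroup.center (G ⧸ Q)).zpow_mem hcen i) (π g), mul_inv_cancel_right]⟩
      have hA2 := pre_isPGroup Q hQ2 ht
      obtain ⟨g, rfl⟩ := hπs t
      have hgQ : g ∉ Q := fun hgQ => by
        rw [show π g = 1 from mk_eq_one Q hgQ, orderOf_one] at ht
        omega
      by_cases hc : IsCyclic (pre Q (π g))
      · exact hmax' _ (le_pre Q _) (fun hle => hgQ (hle (mem_pre Q))) hAn hc hA2
      · obtain ⟨S₀⟩ : Nonempty (Sylow 2 G) := inferInstance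
        have hall : ∀ T : Sylow 2 G, pre Q (π g) ≤ T := fun T => (le_pCore hA2).trans (pCore_le_sylow T)
        haveI : Subsingleton (Sylow 2 G) := ⟨fun A B => by
          by_contra hne
          haveI := hP A B hne
          exact hc (Subgroup.isCyclic_of_le (le_inf (hall A) (hall B)))⟩
        haveI := Sylow.characteristic_of_subsingleton S₀
        haveI : Group.IsNilpotent (S₀ : Subgroup G) := S₀.2.isNilpotent
        exact not_solvable_quotient (S₀ : Subgroup G) hns (odd _ (by
          rw [← Subgroup.index_eq_card]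
          exact Nat.not_even_iff_odd.mp fun he => S₀.not_dvd_index he.two_dvd))
  exact key.false

/-- Row 3306 from the odd order theorem. -/
theorem solvable_normal_mod_core (odd : ∀ (H : Type u) [Group H] [Finite H], Odd (Nat.card H) → Group.IsSolvable H)
    {G : Type u} [Group G] [Finite G] (hns : ¬ Group.IsSolvable G)
    (hP : ∀ S T : Sylow 2 G, S ≠ T → IsCyclic ↥((S : Subgroup G) ⊓ (T : Subgroup G)))
    (N : Subgroup G) [N.Normal] (hN : Group.IsSolvable ↥N) :
    IsCyclic ↥(N.map (QuotientGroup.mk' (oddCore G))) ∧ IsPGroup 2 ↥(N.map (QuotientGroup.mk' (oddCore G))) ∧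
      N.map (QuotientGroup.mk' (oddCore G)) ≤ Subgroup.center (G ⧸ oddCore G) := by
  classical
  haveI : Fact (Nat.Prime 2) := ⟨Nat.prime_two⟩
  haveI : Group.IsSolvable (oddCore G) := odd _ odd_card_oddCore
  have hns' := not_solvable_quotient (oddCore G) hns
  have hP' := Cfsg.Agent.S3305.result hP (oddCore G)
  set M := N.map (QuotientGroup.mk' (oddCore G)) with hM
  haveI hMn : M.Normal := Subgroup.Normal.map inferInstance _ (QuotientGroup.mk'_surjective _)
  haveI : Group.IsSolvable M := Group.isSolvable_of_surjective (MonoidHom.subgroupMap_surjective _ N)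
  set Gb := G ⧸ oddCore G
  set F := pCore 2 Gb with hF
  have hFc : IsCyclic F := by
    obtain ⟨S⟩ : Nonempty (Sylow 2 Gb) := inferInstance
    obtain ⟨T, hT⟩ : ∃ T, T ≠ S := by
      by_contra h
      push Not at h
      haveI : Subsingleton (Sylow 2 Gb) := ⟨fun a b => (h a).trans (h b).symm⟩
      haveI := Sylow.characteristic_of_subsingleton S
      haveI : Group.IsNilpotent (S : Subgroup Gb) := S.2.isNilpotent
      exact not_solvable_quotient (S : Subgroup Gb) hns' (odd _ (by
        rw [← Subgroup.index_eq_card]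
        exact Nat.not_even_iff_odd.mp fun he => S.not_dvd_index he.two_dvd))
    haveI := hP' T S hT
    exact Subgroup.isCyclic_of_le (le_inf (pCore_le_sylow T) (pCore_le_sylow S))
  have hFz : F ≤ Subgroup.center Gb := le_center odd _ Gb rfl hns' hP' F inferInstance hFc (isPGroup_pCore 2)
  have hM0 : pPrimeCore 2 M = ⊥ := by
    have h1 : (pPrimeCore 2 M).map M.subtype ≤ pPrimeCore 2 Gb := le_pPrimeCore (by
      rw [card_map_of_injective M.subtype_injective]
      exact card_pPrimeCore_coprime 2)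
    rw [pPrimeCore_quotient_eq_bot 2, le_bot_iff, map_eq_bot_iff_of_injective _ M.subtype_injective] at h1
    exact h1
  have hM2 : pCore 2 M = ⊤ := by
    refine eq_top_iff.mpr (le_trans ?_ (centralizer_pCore_le Nat.prime_two hM0))
    intro x _
    rw [mem_centralizer_iff]
    intro y hy
    have hy' : (y : Gb) ∈ F := le_pCore ((isPGroup_pCore 2).map M.subtype) (mem_map_of_mem _ hy)
    exact Subtype.ext (Subgroup.mem_center_iff.mp (hFz hy') (x : Gb)).symm
  have hMp : IsPGroup 2 M := ((hM2 ▸ isPGroup_pCore 2 : IsPGroup 2 (⊤ : Subgroup M))).of_equiv Subgroup.topEquiv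
  have hMF : M ≤ F := le_pCore hMp
  exact ⟨Subgroup.isCyclic_of_le hMF, hMp, hMF.trans hFz⟩

end CfsgLib.AfterFT.CyclicIntersect
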